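import Cfsg.Agent.H60.CycInt.Simple
import Cfsg.Prelude.Def_TwoFusion

/-!
# Abelian Sylow 2-intersections: fusion of elements with non-abelian centralisers

A non-abelian 2-subgroup lies in one Sylow 2-subgroup.  So for `x ∈ S` with `C_S(x)` non-abelian the
latter is Sylow in `C(x)` and `N(S)` controls fusion among such elements.  Hence the central
involutions are strongly closed unless one of them is conjugate to an element `y` of `S` with `C_S(y)`
abelian, and then `C_S(y)` is a self-centralising intersection of two Sylow 2-subgroups.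
-/

set_option autoImplicit false
set_option linter.style.haveILetI false
set_option linter.unusedSectionVars false

namespace Cfsg.Agent.H60.AbInt

open Subgroup Cfsg.Agent.H60.CycInt
open scoped Pointwise

local instance fact_two_abint : Fact (Nat.Prime 2) := ⟨Nat.prime_two⟩

universe u

/-- Two distinct Sylow 2-subgroups meet in an abelian group. -/
def AbInter (G : Type*) [Group G] : Prop :=
  ∀ S T : Sylow 2 G, S ≠ T → IsMulCommutative ↥((S : Subgroup G) ⊓ (T : Subgroup G))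

variable {G : Type u} [Group G] [Finite G]

theorem isMulCommutative_of_le {A B : Subgroup G} (h : A ≤ B) (hB : IsMulCommutative ↥B) :
    IsMulCommutative ↥A :=
  ⟨⟨fun a b => Subtype.ext
    (congrArg Subtype.val (hB.is_comm.comm ⟨a, h a.2⟩ ⟨b, h b.2⟩) : (a : G) * b = b * a)⟩⟩

/-- A non-abelian 2-subgroup lies in one Sylow 2-subgroup. -/
theorem eq_of_le (h : AbInter G) {D : Subgroup G} (hD : ¬ IsMulCommutative ↥D) {S T : Sylow 2 G}
    (hS : D ≤ (S : Subgroup G)) (hT : D ≤ (T : Subgroup G)) : S = T := by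
  by_contra hne
  exact hD (isMulCommutative_of_le (le_inf hS hT) (h S T hne))

/-- A non-abelian centraliser in a Sylow 2-subgroup is Sylow in the whole centraliser. -/
theorem exists_le_smul_centralizer (h : AbInter G) {S : Sylow 2 G} {x : G}
    (hna : ¬ IsMulCommutative ↥((S : Subgroup G) ⊓ centralizer ({x} : Set G))) {Q : Subgroup G}
    (hQ : IsPGroup 2 Q) (hQx : Q ≤ centralizer ({x} : Set G)) :
    ∃ c ∈ centralizer ({x} : Set G), Q ≤ ((c • S : Sylow 2 G) : Subgroup G) := by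
  set C := centralizer ({x} : Set G) with hC
  obtain ⟨U, hU⟩ := ((S.isPGroup'.to_le (inf_le_left : (S : Subgroup G) ⊓ C ≤ _)).comap_subtype
    (K := C)).exists_le_sylow
  obtain ⟨S', hS'⟩ := (U.isPGroup'.map C.subtype).exists_le_sylow
  have e : S' = S :=
    eq_of_le h hna (fun y hy => hS' ⟨⟨y, hy.2⟩, hU (mem_subgroupOf.mpr hy), rfl⟩) inf_le_left
  obtain ⟨V, hV⟩ := (hQ.comap_subtype (K := C)).exists_le_sylow
  obtain ⟨k, rfl⟩ := MulAction.exists_smul_eq C U V
  refine ⟨k, k.2, fun q hq => H24.CycInt.mem_smul_iff.mpr ?_⟩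
  have h1 := H24.CycInt.mem_smul_iff.mp (hV (show (⟨q, hQx hq⟩ : C) ∈ Q.subgroupOf C from hq))
  rw [← e]
  exact hS' ⟨_, h1, rfl⟩

/-- **`N(S)` controls fusion among elements with non-abelian centralisers in `S`.** -/
theorem exists_normalizer_conj (h : AbInter G) {S : Sylow 2 G} {x g : G}
    (hx : ¬ IsMulCommutative ↥((S : Subgroup G) ⊓ centralizer ({x} : Set G)))
    (hy : ¬ IsMulCommutative ↥((S : Subgroup G) ⊓ centralizer ({g * x * g⁻¹} : Set G))) :
    ∃ n ∈ normalizer ((S : Subgroup G) : Set G), n * x * n⁻¹ = g * x * g⁻¹ := by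
  set D := ((S : Subgroup G) ⊓ centralizer ({x} : Set G)).map (MulAut.conj g).toMonoidHom with hD
  have hDc : D ≤ centralizer ({g * x * g⁻¹} : Set G) := by
    rintro _ ⟨y, hy', rfl⟩
    exact CycInt.commute_iff_mem.mpr
      ((CycInt.commute_iff_mem.mp hy'.2).map (MulAut.conj g).toMonoidHom)
  have hDg : D ≤ ((g • S : Sylow 2 G) : Subgroup G) := by
    rintro _ ⟨y, hy', rfl⟩
    exact H24.CycInt.conj_mem_smul hy'.1
  have hDna : ¬ IsMulCommutative ↥D := fun hc => hx ⟨⟨fun a b => Subtype.ext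
    ((MulAut.conj g).injective (by
      rw [Subgroup.coe_mul, Subgroup.coe_mul, map_mul, map_mul]
      exact congrArg Subtype.val (hc.is_comm.comm ⟨_, _, a.2, rfl⟩ ⟨_, _, b.2, rfl⟩)))⟩⟩
  obtain ⟨c, hc, hle⟩ := exists_le_smul_centralizer h hy (((g • S : Sylow 2 G)).isPGroup'.to_le hDg) hDc
  have e : g • S = c • S := eq_of_le h hDna hDg hle
  refine ⟨c⁻¹ * g, Sylow.smul_eq_iff_mem_normalizer.mp ?_, ?_⟩
  · rw [mul_smul, e, inv_smul_smul]
  · have h1 := (CycInt.commute_iff_mem.mp hc).eq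
    calc c⁻¹ * g * x * (c⁻¹ * g)⁻¹ = c⁻¹ * (g * x * g⁻¹ * c) := by group
      _ = c⁻¹ * (c * (g * x * g⁻¹)) := by rw [h1]
      _ = g * x * g⁻¹ := inv_mul_cancel_left _ _

/-- The centre of a Sylow 2-subgroup, cut down to square one, is strongly closed, or a central
involution is conjugate to an element with abelian centraliser in the Sylow 2-subgroup. -/
theorem closed_or_bad (h : AbInter G) (S : Sylow 2 G) :
    Cfsg.IsStronglyClosed (ctrInv (S : Subgroup G)) (S : Subgroup G) ∨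
      ∃ z g : G, z ∈ ctrInv (S : Subgroup G) ∧ orderOf z = 2 ∧ g * z * g⁻¹ ∈ (S : Subgroup G) ∧
        IsMulCommutative ↥((S : Subgroup G) ⊓ centralizer ({g * z * g⁻¹} : Set G)) := by
  by_cases hbad : ∃ z g : G, z ∈ ctrInv (S : Subgroup G) ∧ orderOf z = 2 ∧
      g * z * g⁻¹ ∈ (S : Subgroup G) ∧
      IsMulCommutative ↥((S : Subgroup G) ⊓ centralizer ({g * z * g⁻¹} : Set G))
  · exact Or.inr hbad
  refine Or.inl ⟨ctrInv_le _, fun z hz g hg => ?_⟩
  rcases eq_or_ne z 1 with rfl | hz1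
  · simp
  have hy : ¬ IsMulCommutative ↥((S : Subgroup G) ⊓ centralizer ({g * z * g⁻¹} : Set G)) :=
    fun hc => hbad ⟨z, g, hz, orderOf_two hz.2.1 hz1, hg, hc⟩
  have hx : ¬ IsMulCommutative ↥((S : Subgroup G) ⊓ centralizer ({z} : Set G)) := fun hc =>
    hy (isMulCommutative_of_le inf_le_left (isMulCommutative_of_le
      (le_inf le_rfl fun s hs => CycInt.commute_iff_mem.mpr (hz.2.2 s hs)) hc))
  obtain ⟨n, hn, e⟩ := exists_normalizer_conj h hx hy
  exact e ▸ ctrInv_invariant hn hz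

/-- A pair of Sylow 2-subgroups of `N(R)` for the self-centralising intersection `R = C_S(y)`. -/
structure Pair (S : Sylow 2 G) (z y h : G) (R : Subgroup G) : Prop where
  mem_center : z ∈ ctrInv (S : Subgroup G)
  orderOf_z : orderOf z = 2
  conj : h * z * h⁻¹ = y
  mem : y ∈ R
  eq_centralizer : R = (S : Subgroup G) ⊓ centralizer ({y} : Set G)
  comm : IsMulCommutative ↥R
  eq_inf : (S : Subgroup G) ⊓ ((h • S : Sylow 2 G) : Subgroup G) = R
  ne : h • S ≠ S
  /-- `R` is a Sylow 2-subgroup of its centraliser. -/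
  self : ∀ Q : Subgroup G, IsPGroup 2 Q → R ≤ Q → Q ≤ centralizer (R : Set G) → Q = R
  left_na : ¬ IsMulCommutative ↥((S : Subgroup G) ⊓ normalizer (R : Set G))
  right_na : ¬ IsMulCommutative ↥(((h • S : Sylow 2 G) : Subgroup G) ⊓ normalizer (R : Set G))
  /-- `N_S(R)` is Sylow in `N(R)`. -/
  sylow : ∀ Q : Subgroup G, IsPGroup 2 Q → Q ≤ normalizer (R : Set G) →
    ∃ c ∈ normalizer (R : Set G), Q ≤ ((c • S : Sylow 2 G) : Subgroup G)

theorem smul_not_comm {S : Sylow 2 G} (hS : ¬ IsMulCommutative ↥(S : Subgroup G)) (g : G) :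
    ¬ IsMulCommutative ↥((g • S : Sylow 2 G) : Subgroup G) := fun hc => hS ⟨⟨fun a b => Subtype.ext
  ((MulAut.conj g).injective (by
    rw [Subgroup.coe_mul, Subgroup.coe_mul, map_mul, map_mul]
    exact congrArg Subtype.val (hc.is_comm.comm ⟨_, H24.CycInt.conj_mem_smul a.2⟩
      ⟨_, H24.CycInt.conj_mem_smul b.2⟩)))⟩⟩

/-- The normaliser in a 2-group of a proper subgroup with abelian centraliser is non-abelian. -/
theorem normalizer_not_comm {S : Sylow 2 G} (hS : ¬ IsMulCommutative ↥(S : Subgroup G))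
    {R : Subgroup G} (hRS : R ≤ (S : Subgroup G)) (hRc : IsMulCommutative ↥R)
    (hself : (S : Subgroup G) ⊓ centralizer (R : Set G) ≤ R) :
    ¬ IsMulCommutative ↥((S : Subgroup G) ⊓ normalizer (R : Set G)) := by
  intro hc
  have hne : R.subgroupOf (S : Subgroup G) < ⊤ := lt_top_iff_ne_top.mpr fun e =>
    hS (isMulCommutative_of_le (subgroupOf_eq_top.mp e) hRc)
  haveI : Group.IsNilpotent ↥(S : Subgroup G) := S.isPGroup'.isNilpotent
  obtain ⟨a, ha, haR⟩ := SetLike.exists_of_lt (Group.normalizerCondition_of_isNilpotent _ hne)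
  have haN : (a : G) ∈ normalizer (R : Set G) := mem_normalizer_iff.mpr fun w => by
    have key : ∀ b : ↥(S : Subgroup G), b ∈ normalizer (R.subgroupOf (S : Subgroup G) : Set _) →
        ∀ w ∈ R, (b : G) * w * (b : G)⁻¹ ∈ R := fun b hb w hw =>
      mem_subgroupOf.mp ((mem_normalizer_iff.mp hb ⟨w, hRS hw⟩).mp hw)
    refine ⟨key a ha w, fun hw => ?_⟩
    have h1 := key a⁻¹ (inv_mem ha) _ hw
    simpa [mul_assoc] using h1
  refine haR (hself ⟨a.2, mem_centralizer_iff.mpr fun w hw => ?_⟩)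
  exact congrArg Subtype.val
    (hc.is_comm.comm ⟨w, hRS hw, le_normalizer hw⟩ ⟨(a : G), a.2, haN⟩)

/-- **The configuration at a bad involution.** -/
theorem exists_pair (h : AbInter G) {S : Sylow 2 G} (hS : ¬ IsMulCommutative ↥(S : Subgroup G))
    {z g : G} (hz : z ∈ ctrInv (S : Subgroup G)) (hz2 : orderOf z = 2)
    (hy : g * z * g⁻¹ ∈ (S : Subgroup G))
    (hyc : IsMulCommutative ↥((S : Subgroup G) ⊓ centralizer ({g * z * g⁻¹} : Set G))) :
    ∃ k, Pair S z (g * z * g⁻¹) k ((S : Subgroup G) ⊓ centralizer ({g * z * g⁻¹} : Set G)) := by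
  set y := g * z * g⁻¹ with hyd
  set R := (S : Subgroup G) ⊓ centralizer ({y} : Set G) with hR
  have hgc : ((g • S : Sylow 2 G) : Subgroup G) ≤ centralizer ({y} : Set G) := fun t ht => by
    have h1 := (hz.2.2 _ (H24.CycInt.mem_smul_iff.mp ht)).map (MulAut.conj g).toMonoidHom
    exact CycInt.commute_iff_mem.mpr (by rw [hyd]; simpa [mul_assoc] using h1)
  have hgna : ¬ IsMulCommutative
      ↥(((g • S : Sylow 2 G) : Subgroup G) ⊓ centralizer ({y} : Set G)) := by
    rw [inf_eq_left.mpr hgc]; exact smul_not_comm hS g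
  obtain ⟨c, hc, hRk⟩ := exists_le_smul_centralizer h hgna
    (S.isPGroup'.to_le (inf_le_left : R ≤ _)) inf_le_right
  rw [← mul_smul] at hRk
  have hkz : c * g * z * (c * g)⁻¹ = y := by
    calc c * g * z * (c * g)⁻¹ = c * y * c⁻¹ := by rw [hyd]; group
      _ = y := by rw [(CycInt.commute_iff_mem.mp hc).eq, mul_inv_cancel_right]
  have hTc : (((c * g) • S : Sylow 2 G) : Subgroup G) ≤ centralizer ({y} : Set G) := fun t ht => by
    have h1 := (hz.2.2 _ (H24.CycInt.mem_smul_iff.mp ht)).map (MulAut.conj (c * g)).toMonoidHom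
    rw [← hkz]
    exact CycInt.commute_iff_mem.mpr (by simpa [mul_assoc] using h1)
  have hne : (c * g) • S ≠ S := fun e => hS (isMulCommutative_of_le
    (show (S : Subgroup G) ≤ R from le_inf le_rfl fun s hs => hTc (e.symm ▸ hs)) hyc)
  have hinf : (S : Subgroup G) ⊓ (((c * g) • S : Sylow 2 G) : Subgroup G) = R :=
    le_antisymm (le_inf inf_le_left fun t ht => hTc ht.2) (le_inf inf_le_left hRk)
  have hyR : y ∈ R := ⟨hy, CycInt.commute_iff_mem.mpr (Commute.refl y)⟩
  have hselfS : (S : Subgroup G) ⊓ centralizer (R : Set G) ≤ R := fun s hs =>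
    ⟨hs.1, mem_centralizer_singleton_iff.mpr (mem_centralizer_iff.mp hs.2 y hyR).symm⟩
  have hleft := normalizer_not_comm hS inf_le_left hyc hselfS
  -- `N_S(R)` is Sylow in `N(R)`
  have hsyl : ∀ Q : Subgroup G, IsPGroup 2 Q → Q ≤ normalizer (R : Set G) →
      ∃ c ∈ normalizer (R : Set G), Q ≤ ((c • S : Sylow 2 G) : Subgroup G) := by
    intro Q hQ hQN
    set N := normalizer (R : Set G) with hN
    obtain ⟨U, hU⟩ := ((S.isPGroup'.to_le (inf_le_left : (S : Subgroup G) ⊓ N ≤ _)).comap_subtype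
      (K := N)).exists_le_sylow
    obtain ⟨S', hS'⟩ := (U.isPGroup'.map N.subtype).exists_le_sylow
    have e : S' = S :=
      eq_of_le h hleft (fun y hy => hS' ⟨⟨y, hy.2⟩, hU (mem_subgroupOf.mpr hy), rfl⟩) inf_le_left
    obtain ⟨V, hV⟩ := (hQ.comap_subtype (K := N)).exists_le_sylow
    obtain ⟨k, rfl⟩ := MulAction.exists_smul_eq N U V
    refine ⟨k, k.2, fun q hq => H24.CycInt.mem_smul_iff.mpr ?_⟩
    have h1 := H24.CycInt.mem_smul_iff.mp (hV (show (⟨q, hQN hq⟩ : N) ∈ Q.subgroupOf N from hq))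
    rw [← e]
    exact hS' ⟨_, h1, rfl⟩
  -- `R` is Sylow in its centraliser
  have hself : ∀ Q : Subgroup G, IsPGroup 2 Q → R ≤ Q → Q ≤ centralizer (R : Set G) → Q = R := by
    intro Q hQ hRQ hQC
    obtain ⟨d, hd, hle⟩ := hsyl Q hQ (hQC.trans (Subgroup.centralizer_le_normalizer _))
    refine le_antisymm (fun q hq => ?_) hRQ
    have hdR : ∀ w ∈ R, d * w * d⁻¹ ∈ R := fun w hw => (mem_normalizer_iff.mp hd w).mp hw
    have h1 : d⁻¹ * q * d ∈ (S : Subgroup G) := H24.CycInt.mem_smul_iff.mp (hle hq)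
    have h2 : d⁻¹ * q * d ∈ centralizer (R : Set G) := mem_centralizer_iff.mpr fun w hw => by
      have h3 := mem_centralizer_iff.mp (hQC hq) _ (hdR w hw)
      calc w * (d⁻¹ * q * d) = d⁻¹ * (d * w * d⁻¹ * q) * d := by group
        _ = d⁻¹ * (q * (d * w * d⁻¹)) * d := by rw [h3]
        _ = d⁻¹ * q * d * w := by group
    simpa [mul_assoc] using hdR _ (hselfS ⟨h1, h2⟩)
  refine ⟨c * g, hz, hz2, hkz, hyR, rfl, hyc, hinf, hne, hself, hleft, ?_, hsyl⟩
  have hT := smul_not_comm hS (c * g)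
  refine normalizer_not_comm hT hRk hyc ?_
  exact (hself _ (((c * g) • S : Sylow 2 G).isPGroup'.to_le inf_le_left)
    (le_inf hRk fun w hw => mem_centralizer_iff.mpr fun v hv =>
      congrArg Subtype.val (hyc.is_comm.comm ⟨v, hv⟩ ⟨w, hw⟩))
    inf_le_right).le

end Cfsg.Agent.H60.AbInt
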